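import Cfsg.Agent.Lib.Helper26.GL42.Api
import Cfsg.Agent.S0144

set_option autoImplicit false

namespace Cfsg.Agent.Lib.Helper70.GL42

open MulAction Cfsg.Agent.Lib.Helper26.GL42

/-- [P1] -/
theorem exists_perfect_normal {X : Type*} [Group X] [Finite X] (hns : ¬ Group.IsSolvable X) :
    ∃ T : Subgroup X, T.Normal ∧ T ≠ ⊥ ∧ ⁅T, T⁆ = T := by
  let S : Set (Subgroup X) := Set.range (derivedSeries X)
  obtain ⟨T, hT⟩ := (Set.toFinite S).exists_minimal ⟨derivedSeries X 0, 0, rfl⟩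
  obtain ⟨n, rfl⟩ := hT.prop
  refine ⟨derivedSeries X n, inferInstance, ?_, ?_⟩
  · intro h
    exact hns ((Group.isSolvable_def X).2 ⟨n, h⟩)
  · have h1 : ⁅derivedSeries X n, derivedSeries X n⁆ ≤ derivedSeries X n :=
      Subgroup.commutator_le_self _
    exact le_antisymm h1 (hT.le_of_le ⟨n + 1, rfl⟩ h1)

/-- [P2] -/
theorem perm_isSolvable_of_card_le_four (Y : Type*) [Finite Y] (hY : Nat.card Y ≤ 4) :
    Group.IsSolvable (Equiv.Perm Y) := by
  classical
  have := Fintype.ofFinite Y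
  have hc : Nat.card (Equiv.Perm Y) = (Nat.card Y).factorial := by
    rw [Nat.card_eq_fintype_card, Fintype.card_perm, Nat.card_eq_fintype_card]
  obtain ⟨k, hk⟩ : ∃ k, k = Nat.card Y := ⟨_, rfl⟩
  rw [← hk] at hc hY
  interval_cases k
  · exact Cfsg.Agent.S0144.result 2 3 0 0 Nat.prime_two Nat.prime_three (by rw [hc]; rfl)
  · exact Cfsg.Agent.S0144.result 2 3 0 0 Nat.prime_two Nat.prime_three (by rw [hc]; rfl)
  · exact Cfsg.Agent.S0144.result 2 3 1 0 Nat.prime_two Nat.prime_three (by rw [hc]; rfl)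
  · exact Cfsg.Agent.S0144.result 2 3 1 1 Nat.prime_two Nat.prime_three (by rw [hc]; rfl)
  · exact Cfsg.Agent.S0144.result 2 3 3 1 Nat.prime_two Nat.prime_three (by rw [hc]; rfl)

/-- [P3] -/
theorem perfect_hom_trivial {X S : Type*} [Group X] [Group S] [Group.IsSolvable S] (T : Subgroup X)
    (hT : ⁅T, T⁆ = T) (f : X →* S) : ∀ t ∈ T, f t = 1 := by
  have h1 : ∀ n, T.map f ≤ derivedSeries S n := by
    intro n
    induction n with
    | zero => exact le_top
    | succ n ih =>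
      rw [derivedSeries_succ, ← hT, Subgroup.map_commutator]
      exact Subgroup.commutator_mono ih ih
  obtain ⟨n, hn⟩ := (Group.isSolvable_def S).1 inferInstance
  intro t ht
  have h2 := h1 n (Subgroup.mem_map_of_mem f ht)
  rwa [hn, Subgroup.mem_bot] at h2

end Cfsg.Agent.Lib.Helper70.GL42
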